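import Mathlib

set_option autoImplicit false
set_option backward.isDefEq.respectTransparency.types false
set_option synthInstance.maxHeartbeats 400000
set_option maxHeartbeats 4000000
set_option linter.style.haveILetI false
set_option linter.unusedSectionVars false
set_option linter.unusedVariables false

/-!
# Hartogs extension from weakly regular pairs (non-Noetherian, elementwise)

`R → N` is a ring map which becomes bijective after inverting each of finitely many `f i`, and `N`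
injects into the product of its localizations at the `f i`.  If every prime containing all `f i`
has a "regular pair" (elementwise form of a weakly regular sequence of length two in the maximal
ideal of the localization), then `R → N` is bijective.
-/

namespace Groth.Agent.Lib.Helper2.HartogsWR

open scoped BigOperators Pointwise

/-- If `p` is minimal over `I` and `α ∈ p`, then `s * α ^ k ∈ I` for some `s ∉ p`. -/
theorem exists_mul_pow_mem_of_mem_minimalPrimes {R : Type*} [CommRing R] {I p : Ideal R}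
    (hp : p ∈ I.minimalPrimes) {α : R} (hα : α ∈ p) :
    ∃ (k : ℕ) (s : R), s ∉ p ∧ s * α ^ k ∈ I := by
  haveI : p.IsPrime := hp.1.1
  let A := Localization.AtPrime p
  have hrad := IsLocalization.AtPrime.radical_map_of_mem_minimalPrimes (A := A) p I hp
  have h1 : algebraMap R A α ∈ (I.map (algebraMap R A)).radical := by
    rw [hrad]; exact Ideal.mem_map_of_mem _ hα
  obtain ⟨k, hk⟩ := h1
  rw [← map_pow, IsLocalization.mem_map_algebraMap_iff p.primeCompl] at hk
  obtain ⟨⟨⟨d, hd⟩, ⟨s, hs⟩⟩, h⟩ := hk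
  rw [← map_mul, IsLocalization.eq_iff_exists p.primeCompl] at h
  obtain ⟨⟨c, hc⟩, hc'⟩ := h
  refine ⟨k, c * s, ?_, ?_⟩
  · exact p.primeCompl.mul_mem hc hs
  · have : c * s * α ^ k = c * d := by
      have h2 : c * (α ^ k * s) = c * d := hc'
      rw [← h2]; ring
    rw [this]; exact I.mul_mem_left _ hd

/-- Elementwise form of: the maximal ideal of `R_p` contains a weakly regular sequence of
length two. -/
def HasRegPair {R : Type*} [CommRing R] (p : Ideal R) : Prop :=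
  ∃ α β : R, α ∈ p ∧ β ∈ p ∧ (∀ x, α * x = 0 → ∃ s, s ∉ p ∧ s * x = 0) ∧
    (∀ x y, β * x = α * y → ∃ c s, s ∉ p ∧ s * x = α * c)

theorem hasRegPair_of_isWeaklyRegular {R A : Type*} [CommRing R] [CommRing A] [Algebra R A]
    (p : Ideal R) [p.IsPrime] [IsLocalization.AtPrime A p] [IsLocalRing A] (a b : A)
    (ha : a ∈ IsLocalRing.maximalIdeal A) (hb : b ∈ IsLocalRing.maximalIdeal A)
    (h : RingTheory.Sequence.IsWeaklyRegular A [a, b]) : HasRegPair p := by
  rw [RingTheory.Sequence.isWeaklyRegular_cons_iff,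
    RingTheory.Sequence.isWeaklyRegular_singleton_iff] at h
  obtain ⟨hreg1, hreg2⟩ := h
  obtain ⟨⟨α, σ⟩, hα⟩ := IsLocalization.surj p.primeCompl a
  obtain ⟨⟨β, τ⟩, hβ⟩ := IsLocalization.surj p.primeCompl b
  -- hα : a * algebraMap σ = algebraMap α
  simp only at hα hβ
  have hαp : α ∈ p := by
    rw [← IsLocalization.AtPrime.to_map_mem_maximal_iff A p α, ← hα]
    exact Ideal.mul_mem_right _ _ ha
  have hβp : β ∈ p := by
    rw [← IsLocalization.AtPrime.to_map_mem_maximal_iff A p β, ← hβ]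
    exact Ideal.mul_mem_right _ _ hb
  refine ⟨α, β, hαp, hβp, ?_, ?_⟩
  · intro x hx
    have h1 : a • (algebraMap R A (σ * x)) = a • (0 : A) := by
      rw [smul_zero, smul_eq_mul, map_mul, ← mul_assoc, hα, ← map_mul, hx, map_zero]
    have h2 := hreg1 h1
    rw [IsLocalization.map_eq_zero_iff p.primeCompl] at h2
    obtain ⟨⟨c, hc⟩, hc'⟩ := h2
    refine ⟨c * σ, p.primeCompl.mul_mem hc σ.2, ?_⟩
    rw [mul_assoc]; exact hc'
  · intro x y hxy
    -- b * algebraMap (τ x) = a * algebraMap (σ y)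
    have h1 : b • (algebraMap R A (τ * x)) = a * algebraMap R A (σ * y) := by
      rw [smul_eq_mul, map_mul, ← mul_assoc, hβ, ← map_mul, hxy, map_mul, ← hα, map_mul]
      ring
    have h2 : b • (algebraMap R A (τ * x)) ∈ a • (⊤ : Submodule A A) := by
      rw [h1, Submodule.mem_smul_pointwise_iff_exists]
      exact ⟨_, trivial, rfl⟩
    have h3 := (isSMulRegular_quotient_iff_mem_of_smul_mem _ b).1 hreg2 _ h2
    rw [Submodule.mem_smul_pointwise_iff_exists] at h3
    obtain ⟨w, -, hw⟩ := h3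
    -- a • w = algebraMap (τ x)
    obtain ⟨⟨c, s'⟩, hc⟩ := IsLocalization.surj p.primeCompl w
    simp only at hc
    -- w * algebraMap s' = algebraMap c
    have h4 : algebraMap R A ((σ : R) * ((τ : R) * x) * (s' : R)) = algebraMap R A (α * c) := by
      have hw' : a * w = algebraMap R A ((τ : R) * x) := hw
      simp only [map_mul] at hw' ⊢
      rw [← hα, ← hc]
      linear_combination (-(algebraMap R A (σ : R) * algebraMap R A (s' : R))) * hw'
    rw [IsLocalization.eq_iff_exists p.primeCompl] at h4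
    obtain ⟨⟨c', hc'⟩, h5⟩ := h4
    refine ⟨c' * c, c' * σ * τ * s', ?_, ?_⟩
    · exact p.primeCompl.mul_mem (p.primeCompl.mul_mem (p.primeCompl.mul_mem hc' σ.2) τ.2) s'.2
    · have h6 : c' * (σ * (τ * x) * s') = c' * (α * c) := h5
      calc c' * σ * τ * s' * x = c' * (σ * (τ * x) * s') := by ring
        _ = c' * (α * c) := h6
        _ = α * (c' * c) := by ring

section main

variable {R N : Type*} [CommRing R] [CommRing N] (φ : R →+* N)

/-- The "denominator ideal" of `e`. -/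
def den (e : N) : Ideal R where
  carrier := {d | ∃ r, φ d * e = φ r}
  add_mem' := by
    rintro a b ⟨r, hr⟩ ⟨r', hr'⟩
    exact ⟨r + r', by rw [map_add, add_mul, hr, hr', map_add]⟩
  zero_mem' := ⟨0, by simp⟩
  smul_mem' := by
    rintro c a ⟨r, hr⟩
    exact ⟨c * r, by rw [smul_eq_mul, map_mul, mul_assoc, hr, map_mul]⟩

theorem mem_den {e : N} {d : R} : d ∈ den φ e ↔ ∃ r, φ d * e = φ r := Iff.rfl

theorem pow_regular {p : Ideal R} {α : R}
    (h1 : ∀ x, α * x = 0 → ∃ s, s ∉ p ∧ s * x = 0) [p.IsPrime] :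
    ∀ (k : ℕ) (x : R), α ^ k * x = 0 → ∃ s, s ∉ p ∧ s * x = 0 := by
  intro k
  induction k with
  | zero =>
    intro x hx
    exact ⟨1, fun h => Ideal.IsPrime.ne_top' ((Ideal.eq_top_iff_one p).2 h), by simpa using hx⟩
  | succ k ih =>
    intro x hx
    have : α * (α ^ k * x) = 0 := by rw [← hx]; ring
    obtain ⟨s, hs, hs'⟩ := h1 _ this
    have : α ^ k * (s * x) = 0 := by rw [← hs']; ring
    obtain ⟨s', hs2, hs2'⟩ := ih _ this
    exact ⟨s' * s, fun h => (Ideal.IsPrime.mem_or_mem ‹_› h).elim hs2 hs, by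
      rw [mul_assoc]; exact hs2'⟩

variable {ι : Type*} [Finite ι] (f : ι → R)

theorem injective_of_hasRegPair
    (hb : ∀ i (r : R), φ r = 0 → ∃ k : ℕ, f i ^ k * r = 0)
    (H : ∀ p : Ideal R, p.IsPrime → (∀ i, f i ∈ p) → HasRegPair p) :
    Function.Injective φ := by
  rw [injective_iff_map_eq_zero]
  intro r hr
  by_contra hne
  let I : Ideal R := (Submodule.span R {r}).annihilator
  have hI : ∀ x, x ∈ I ↔ x * r = 0 := fun x => by
    show x ∈ (Submodule.span R {r}).annihilator ↔ _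
    rw [Submodule.mem_annihilator_span_singleton]; rfl
  have hItop : I ≠ ⊤ := by
    intro h
    have : (1 : R) ∈ I := by rw [h]; trivial
    rw [hI, one_mul] at this
    exact hne this
  obtain ⟨M, hM, hIM⟩ := Ideal.exists_le_maximal I hItop
  haveI : M.IsPrime := hM.isPrime
  obtain ⟨p, hp, -⟩ := Ideal.exists_minimalPrimes_le hIM
  haveI : p.IsPrime := hp.1.1
  have hfp : ∀ i, f i ∈ p := by
    intro i
    obtain ⟨k, hk⟩ := hb i r hr
    have : f i ^ k ∈ I := (hI _).2 hk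
    exact Ideal.IsPrime.mem_of_pow_mem ‹_› k (hp.1.2 this)
  obtain ⟨α, β, hα, hβ, h1, h2⟩ := H p ‹_› hfp
  obtain ⟨k, s, hs, hsk⟩ := exists_mul_pow_mem_of_mem_minimalPrimes hp hα
  rw [hI] at hsk
  have : α ^ k * (s * r) = 0 := by rw [← hsk]; ring
  obtain ⟨s', hs', hs2⟩ := pow_regular h1 k _ this
  have : s' * s ∈ I := (hI _).2 (by rw [mul_assoc]; exact hs2)
  exact (Ideal.IsPrime.mem_or_mem ‹_› (hp.1.2 this)).elim hs' hs

/-- `α` stays regular on `N` locally at `p`. -/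
theorem regular_on_target
    (ha : ∀ i (e : N), ∃ (k : ℕ) (r : R), φ (f i) ^ k * e = φ r)
    (hb : ∀ i (r : R), φ r = 0 → ∃ k : ℕ, f i ^ k * r = 0)
    (hc : ∀ e : N, (∀ i, ∃ k : ℕ, φ (f i) ^ k * e = 0) → e = 0)
    (p : Ideal R) [p.IsPrime] {α : R}
    (h1 : ∀ x, α * x = 0 → ∃ s, s ∉ p ∧ s * x = 0)
    (e : N) (he : φ α * e = 0) : ∃ s, s ∉ p ∧ φ s * e = 0 := by
  classical
  cases nonempty_fintype ι
  have key : ∀ i, ∃ s, s ∉ p ∧ ∃ K : ℕ, φ (f i) ^ K * (φ s * e) = 0 := by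
    intro i
    obtain ⟨k, r, hkr⟩ := ha i e
    have h2 : φ (α * r) = 0 := by
      rw [map_mul, ← hkr]
      calc φ α * (φ (f i) ^ k * e) = φ (f i) ^ k * (φ α * e) := by ring
        _ = 0 := by rw [he, mul_zero]
    obtain ⟨l, hl⟩ := hb i _ h2
    have h3 : α * (f i ^ l * r) = 0 := by rw [← hl]; ring
    obtain ⟨s, hs, hs'⟩ := h1 _ h3
    refine ⟨s, hs, l + k, ?_⟩
    calc φ (f i) ^ (l + k) * (φ s * e) = φ s * φ (f i) ^ l * (φ (f i) ^ k * e) := by
          rw [pow_add]; ring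
      _ = φ (s * (f i ^ l * r)) := by rw [hkr, map_mul, map_mul, map_pow]; ring
      _ = 0 := by rw [hs', map_zero]
  choose s hs hK using key
  refine ⟨∏ i, s i, ?_, ?_⟩
  · intro h
    obtain ⟨i, -, hi⟩ := (Ideal.IsPrime.prod_mem_iff).1 h
    exact hs i hi
  · apply hc
    intro i
    obtain ⟨K, hK'⟩ := hK i
    refine ⟨K, ?_⟩
    have : ∏ j, s j = (∏ j ∈ Finset.univ.erase i, s j) * s i := by
      rw [Finset.prod_erase_mul _ _ (Finset.mem_univ i)]
    rw [this, map_mul]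
    calc φ (f i) ^ K * (φ (∏ j ∈ Finset.univ.erase i, s j) * φ (s i) * e)
        = φ (∏ j ∈ Finset.univ.erase i, s j) * (φ (f i) ^ K * (φ (s i) * e)) := by ring
      _ = 0 := by rw [hK', mul_zero]

/-- One step of the descent: replace `x` by a multiple whose denominator ideal contains `γ`. -/
theorem step {p : Ideal R} [p.IsPrime] (x : N) (hp : p ∈ (den φ x).minimalPrimes) {γ : R}
    (hγ : γ ∈ p) :
    ∃ x' : N, γ ∈ den φ x' ∧ den φ x ≤ den φ x' ∧ den φ x' ≤ p := by
  classical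
  have hex : ∃ k : ℕ, ∃ s, s ∉ p ∧ s * γ ^ k ∈ den φ x :=
    exists_mul_pow_mem_of_mem_minimalPrimes hp hγ
  have hmin := fun m => Nat.find_min hex (m := m)
  obtain ⟨s, hs, hsk⟩ := Nat.find_spec hex
  set k := Nat.find hex with hk
  have hk0 : k ≠ 0 := by
    intro h0
    rw [h0, pow_zero, mul_one] at hsk
    exact hs (hp.1.2 hsk)
  obtain ⟨k', hk'⟩ := Nat.exists_eq_succ_of_ne_zero hk0
  refine ⟨φ (s * γ ^ k') * x, ?_, ?_, ?_⟩
  · obtain ⟨r, hr⟩ := hsk
    refine ⟨r, ?_⟩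
    rw [← hr, hk', pow_succ, ← mul_assoc, ← map_mul]
    congr 2; ring
  · rintro d ⟨r, hr⟩
    refine ⟨s * γ ^ k' * r, ?_⟩
    rw [map_mul _ _ r, ← hr]; ring
  · intro d hd
    by_contra hdp
    obtain ⟨r, hr⟩ := hd
    apply hmin k' (by rw [hk']; exact Nat.lt_succ_self _)
    refine ⟨d * s, fun h => (Ideal.IsPrime.mem_or_mem ‹_› h).elim hdp hs, r, ?_⟩
    rw [← hr, ← mul_assoc, ← map_mul]
    congr 2; ring

theorem minimalPrimes_of_le {I I' p : Ideal R} (hp : p ∈ I.minimalPrimes) (h1 : I ≤ I')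
    (h2 : I' ≤ p) : p ∈ I'.minimalPrimes :=
  ⟨⟨hp.1.1, h2⟩, fun q hq hqp => hp.2 ⟨hq.1, h1.trans hq.2⟩ hqp⟩

theorem surjective_of_hasRegPair
    (ha : ∀ i (e : N), ∃ (k : ℕ) (r : R), φ (f i) ^ k * e = φ r)
    (hb : ∀ i (r : R), φ r = 0 → ∃ k : ℕ, f i ^ k * r = 0)
    (hc : ∀ e : N, (∀ i, ∃ k : ℕ, φ (f i) ^ k * e = 0) → e = 0)
    (H : ∀ p : Ideal R, p.IsPrime → (∀ i, f i ∈ p) → HasRegPair p) :
    Function.Surjective φ := by
  have hinj := injective_of_hasRegPair φ f hb H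
  intro e
  by_contra hne
  have hDtop : den φ e ≠ ⊤ := by
    intro h
    have : (1 : R) ∈ den φ e := by rw [h]; trivial
    obtain ⟨r, hr⟩ := this
    exact hne ⟨r, by rw [← hr, map_one, one_mul]⟩
  obtain ⟨M, hM, hIM⟩ := Ideal.exists_le_maximal _ hDtop
  haveI : M.IsPrime := hM.isPrime
  obtain ⟨p, hp, -⟩ := Ideal.exists_minimalPrimes_le hIM
  haveI : p.IsPrime := hp.1.1
  have hfp : ∀ i, f i ∈ p := by
    intro i
    obtain ⟨k, r, hk⟩ := ha i e
    have : f i ^ k ∈ den φ e := ⟨r, by rw [map_pow]; exact hk⟩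
    exact Ideal.IsPrime.mem_of_pow_mem ‹_› k (hp.1.2 this)
  obtain ⟨α, β, hα, hβ, h1, h2⟩ := H p ‹_› hfp
  obtain ⟨e₁, hα1, hle1, hp1⟩ := step φ e hp hα
  have hpm1 := minimalPrimes_of_le hp hle1 hp1
  obtain ⟨e₂, hβ2, hle2, hp2⟩ := step φ e₁ hpm1 hβ
  obtain ⟨ra, hra⟩ := hle2 hα1
  obtain ⟨rb, hrb⟩ := hβ2
  have h3 : β * ra = α * rb := by
    apply hinj
    rw [map_mul, map_mul, ← hra, ← hrb]; ring
  obtain ⟨c, s, hs, hsc⟩ := h2 _ _ h3
  have h4 : φ α * (φ s * e₂ - φ c) = 0 := by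
    have : φ α * (φ s * e₂ - φ c) = φ s * (φ α * e₂) - φ (α * c) := by rw [map_mul]; ring
    rw [this, hra, ← map_mul, hsc, sub_self]
  obtain ⟨s', hs', hs2⟩ := regular_on_target φ f ha hb hc p h1 _ h4
  have : s' * s ∈ den φ e₂ := by
    refine ⟨s' * c, ?_⟩
    have : φ s' * (φ s * e₂ - φ c) = 0 := hs2
    rw [map_mul, map_mul, mul_assoc]
    linear_combination this
  exact (Ideal.IsPrime.mem_or_mem ‹_› (hp2 this)).elim hs' hs

theorem bijective_of_hasRegPair
    (ha : ∀ i (e : N), ∃ (k : ℕ) (r : R), φ (f i) ^ k * e = φ r)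
    (hb : ∀ i (r : R), φ r = 0 → ∃ k : ℕ, f i ^ k * r = 0)
    (hc : ∀ e : N, (∀ i, ∃ k : ℕ, φ (f i) ^ k * e = 0) → e = 0)
    (H : ∀ p : Ideal R, p.IsPrime → (∀ i, f i ∈ p) → HasRegPair p) :
    Function.Bijective φ :=
  ⟨injective_of_hasRegPair φ f hb H, surjective_of_hasRegPair φ f ha hb hc H⟩

end main

end Groth.Agent.Lib.Helper2.HartogsWR
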