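import Mathlib
import Groth.Agent.Lib.Helper2.HartogsWR.Alg
import Groth.Agent.Lib.Helper4.RelHartogs1

set_option autoImplicit false
set_option backward.isDefEq.respectTransparency.types false
set_option synthInstance.maxHeartbeats 400000
set_option maxHeartbeats 4000000
set_option linter.style.haveILetI false
set_option linter.unusedSectionVars false
set_option linter.unusedVariables false

/-!
# Hartogs extension of sections of affine morphisms across loci with weakly regular pairs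
-/

open CategoryTheory AlgebraicGeometry TopologicalSpace Opposite
open Groth.Agent.Lib.Helper4.Hartogs4

namespace Groth.Agent.Lib.Helper2.HartogsWR

universe u

variable {X : Scheme.{u}}

theorem affine_res_bijective (U : X.Opens) [QuasiCompact U.ι]
    (hZ : ∀ z : X, z ∉ U → ∃ a b : X.presheaf.stalk z,
      a ∈ IsLocalRing.maximalIdeal (X.presheaf.stalk z) ∧
      b ∈ IsLocalRing.maximalIdeal (X.presheaf.stalk z) ∧
      RingTheory.Sequence.IsWeaklyRegular (X.presheaf.stalk z) [a, b])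
    (V : X.Opens) (hV : IsAffineOpen V) :
    Function.Bijective (X.presheaf.map (homOfLE (inf_le_left : V ⊓ U ≤ V)).op) := by
  classical
  set O : X.Opens := V ⊓ U with hO
  have hOc : IsCompact (O : Set X) := by
    have h1 : IsCompact ((U.ι ⁻¹ᵁ V : U.toScheme.Opens) : Set U.toScheme) :=
      (quasiCompact_iff_forall_isAffineOpen.mp ‹_›) V hV
    have h2 := h1.image U.ι.continuous
    convert h2 using 1
    ext x; constructor
    · rintro ⟨hxV, hxU⟩; exact ⟨⟨x, hxU⟩, hxV, rfl⟩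
    · rintro ⟨y, hy, rfl⟩; exact ⟨hy, y.2⟩
  have hcov : ∀ x : O, ∃ f : Γ(X, V), X.basicOpen f ≤ O ∧ (x : X) ∈ X.basicOpen f :=
    fun x => hV.exists_basicOpen_le x x.2.1
  choose g hg₁ hg₂ using hcov
  obtain ⟨t, ht⟩ := hOc.elim_finite_subcover (fun x : O => (X.basicOpen (g x) : Set X))
    (fun x => (X.basicOpen (g x)).2) (fun x hx => Set.mem_iUnion.2 ⟨⟨x, hx⟩, hg₂ ⟨x, hx⟩⟩)
  let f : ↥t → Γ(X, V) := fun i => g i.1
  have hfO : ∀ i, X.basicOpen (f i) ≤ O := fun i => hg₁ i.1
  have hfcov : ∀ x : X, x ∈ O → ∃ i, x ∈ X.basicOpen (f i) := by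
    intro x hx
    have := ht hx
    simp only [Set.mem_iUnion] at this
    obtain ⟨y, hy, hxy⟩ := this
    exact ⟨⟨y, hy⟩, hxy⟩
  let ρ : Γ(X, V) →+* Γ(X, O) := (X.presheaf.map (homOfLE (inf_le_left : V ⊓ U ≤ V)).op).hom
  -- restriction to D(f i)
  have hresρ : ∀ (i : ↥t) (r : Γ(X, V)),
      X.presheaf.map (homOfLE (hfO i)).op (ρ r) =
        X.presheaf.map (homOfLE (X.basicOpen_le (f i))).op r := fun i r =>
    res_res (homOfLE (inf_le_left : V ⊓ U ≤ V)) (homOfLE (hfO i)) _ r
  have hb : ∀ i (r : Γ(X, V)), ρ r = 0 → ∃ k : ℕ, f i ^ k * r = 0 := by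
    intro i r hr
    refine exists_pow_mul_eq_zero_of_res_basicOpen_eq_zero_of_isAffineOpen X hV r (f i) ?_
    show X.presheaf.map (homOfLE (X.basicOpen_le (f i))).op r = 0
    rw [← hresρ, hr, map_zero]
  have ha : ∀ i (e : Γ(X, O)), ∃ (k : ℕ) (r : Γ(X, V)), ρ (f i) ^ k * e = ρ r := by
    intro i e
    haveI := hV.isLocalization_basicOpen (f i)
    obtain ⟨n, a, hna⟩ := IsLocalization.Away.surj (f i) (X.presheaf.map (homOfLE (hfO i)).op e)
    rw [RingHom.algebraMap_toAlgebra] at hna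
    let y : Γ(X, O) := ρ (f i) ^ n * e - ρ a
    have hy : X.presheaf.map (homOfLE (hfO i)).op y = 0 := by
      show X.presheaf.map (homOfLE (hfO i)).op (ρ (f i) ^ n * e - ρ a) = 0
      rw [map_sub, map_mul, map_pow, hresρ, hresρ, mul_comm, sub_eq_zero]
      exact hna
    have hle : X.basicOpen (ρ (f i)) ≤ X.basicOpen (f i) := by
      show X.basicOpen (X.presheaf.map (homOfLE (inf_le_left : V ⊓ U ≤ V)).op (f i)) ≤ _
      rw [Scheme.basicOpen_res]
      exact inf_le_right
    obtain ⟨m, hm⟩ := exists_pow_mul_eq_zero_of_res_basicOpen_eq_zero_of_isCompact X hOc y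
      (ρ (f i)) (by
        show X.presheaf.map (homOfLE (X.basicOpen_le (ρ (f i)))).op y = 0
        rw [← res_res (homOfLE (hfO i)) (homOfLE hle) _ y, hy, map_zero])
    refine ⟨m + n, f i ^ m * a, ?_⟩
    have : ρ (f i) ^ m * (ρ (f i) ^ n * e - ρ a) = 0 := hm
    rw [map_mul, map_pow, pow_add]
    linear_combination this
  have hc : ∀ e : Γ(X, O), (∀ i, ∃ k : ℕ, ρ (f i) ^ k * e = 0) → e = 0 := by
    intro e he
    refine X.sheaf.eq_of_locally_eq' (fun i : ↥t => X.basicOpen (f i)) O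
      (fun i => homOfLE (hfO i)) ?_ e 0 ?_
    · intro x hx
      obtain ⟨i, hi⟩ := hfcov x hx
      exact Opens.mem_iSup.2 ⟨i, hi⟩
    · intro i
      obtain ⟨k, hk⟩ := he i
      show X.presheaf.map (homOfLE (hfO i)).op e = X.presheaf.map (homOfLE (hfO i)).op 0
      rw [map_zero]
      have h1 := congrArg (X.presheaf.map (homOfLE (hfO i)).op) hk
      rw [map_mul, map_pow, hresρ, map_zero] at h1
      have hu : IsUnit (X.presheaf.map (homOfLE (X.basicOpen_le (f i))).op (f i)) :=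
        RingedSpace.isUnit_res_basicOpen _ (f i)
      exact (hu.pow k).mul_right_eq_zero.1 h1
  have H : ∀ p : Ideal Γ(X, V), p.IsPrime → (∀ i, f i ∈ p) → HasRegPair p := by
    intro p hp hfp
    let y : PrimeSpectrum Γ(X, V) := ⟨p, hp⟩
    have hzV : hV.fromSpec y ∈ V := by
      have : hV.fromSpec y ∈ Set.range hV.fromSpec := Set.mem_range_self y
      rw [hV.range_fromSpec] at this
      exact this
    have hzU : hV.fromSpec y ∉ U := by
      intro hzU
      obtain ⟨i, hi⟩ := hfcov _ ⟨hzV, hzU⟩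
      have h1 : y ∈ hV.fromSpec ⁻¹ᵁ X.basicOpen (f i) := hi
      rw [hV.fromSpec_preimage_basicOpen] at h1
      exact h1 (hfp i)
    obtain ⟨a, b, ha', hb', hab⟩ := hZ _ hzU
    letI : Algebra Γ(X, V) (X.presheaf.stalk (hV.fromSpec y)) :=
      TopCat.Presheaf.algebra_section_stalk X.presheaf ⟨hV.fromSpec y, hzV⟩
    haveI : IsLocalization.AtPrime (X.presheaf.stalk (hV.fromSpec y)) p :=
      hV.isLocalization_stalk' y hzV
    exact hasRegPair_of_isWeaklyRegular p a b ha' hb' hab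
  exact bijective_of_hasRegPair ρ f ha hb hc H

theorem main14272 (X : Scheme.{u}) (U : X.Opens) [QuasiCompact U.ι]
    (hZ : ∀ z : X, z ∉ U → ∃ a b : X.presheaf.stalk z,
      a ∈ IsLocalRing.maximalIdeal (X.presheaf.stalk z) ∧
      b ∈ IsLocalRing.maximalIdeal (X.presheaf.stalk z) ∧
      RingTheory.Sequence.IsWeaklyRegular (X.presheaf.stalk z) [a, b])
    (Y : Scheme.{u}) (f : Y ⟶ X) [IsAffineHom f]
    (t : (U : Scheme.{u}) ⟶ Y) (ht : t ≫ f = U.ι) :
    ∃! s : X ⟶ Y, s ≫ f = 𝟙 X ∧ U.ι ≫ s = t := by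
  have haff := affine_res_bijective U hZ
  have hbij : ∀ W : X.Opens,
      Function.Bijective (X.presheaf.map (homOfLE (inf_le_left : W ⊓ U ≤ W)).op) :=
    fun W => ⟨res_injective U (fun V hV => (haff V hV).1) W, res_surjective U haff W⟩
  exact Groth.Agent.Lib.Helper4.RelHartogs1.relHartogs U hbij (𝟙 X) f t
    (by rw [ht, Category.comp_id])

end Groth.Agent.Lib.Helper2.HartogsWR
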